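import Cfsg.Agent.Lib.CharInt.Galois
import Cfsg.Agent.Lib.Char.Orthogonality
import Mathlib

/-!
# Fields of values at an element of 2-power order

The field generated by the values at `g` of the irreducible characters, for `g` of order `2 ^ m`
with exactly two Galois conjugates of itself in its class.
-/

set_option autoImplicit false

namespace Cfsg.Agent.TwoGroupValues

universe u

variable {G : Type u} [Group G] [Finite G]

/-- The field generated by the values at `g` of the irreducible characters. -/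
noncomputable def valueField (g : G) : IntermediateField ℚ ℂ :=
  IntermediateField.adjoin ℚ {z : ℂ | ∃ χ : Cfsg.IrrCharacter G, (χ : G → ℂ) g = z}

omit [Finite G] in
/-- A ring endomorphism of `ℂ` fixing a set fixes the field it generates. -/
theorem fix_adjoin (f : ℂ →+* ℂ) {S : Set ℂ} (h : ∀ z ∈ S, f z = z) :
    ∀ z ∈ IntermediateField.adjoin ℚ S, f z = z := by
  intro z hz
  induction hz using IntermediateField.adjoin_induction with
  | mem x hx => exact h x hx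
  | algebraMap q => simp
  | add x y _ _ hx hy => rw [map_add, hx, hy]
  | inv x _ hx => rw [map_inv₀, hx]
  | mul x y _ _ hx hy => rw [map_mul, hx, hy]

/-- Values at `g` involve only roots of unity of order dividing `orderOf g`. -/
theorem map_value (χ : Cfsg.IrrCharacter G) (g : G) {N k : ℕ} (hN : orderOf g ∣ N) {f : ℂ →+* ℂ}
    (hf : ∀ z : ℂ, z ^ N = 1 → f z = z ^ k) : f (χ.1 g) = χ.1 (g ^ k) := by
  obtain ⟨n, μ, -, hμ, hval⟩ :=
    Cfsg.Agent.CharInt.exists_roots (Cfsg.Agent.Char.irr_isCharacter χ) g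
  have h1 := hval 1
  simp only [pow_one] at h1
  rw [h1, hval k, map_sum]
  refine Finset.sum_congr rfl fun i _ => hf _ ?_
  obtain ⟨d, hd⟩ := hN
  rw [hd, pow_mul, hμ i, one_pow]

omit [Finite G] in
/-- Inside a cyclotomic field, what is fixed by the automorphisms fixing `T` lies in `ℚ(T)`. -/
theorem adjoin_le_of_fixed {M : ℕ} [NeZero M] {ζ : ℂ} (hζ : IsPrimitiveRoot ζ M) (S T : Set ℂ)
    (hS : S ⊆ IntermediateField.adjoin ℚ {ζ}) (hT : T ⊆ IntermediateField.adjoin ℚ {ζ})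
    (h : ∀ f : ℂ →+* ℂ, ∀ k : ℕ, (∀ z : ℂ, z ^ M = 1 → f z = z ^ k) →
      (∀ t ∈ T, f t = t) → ∀ s ∈ S, f s = s) :
    IntermediateField.adjoin ℚ S ≤ IntermediateField.adjoin ℚ T := by
  classical
  rw [IntermediateField.adjoin_le_iff]
  intro s hs
  let K : IntermediateField ℚ ℂ := IntermediateField.adjoin ℚ {ζ}
  haveI : IsCyclotomicExtension {M} ℚ K := by
    change IsCyclotomicExtension {M} ℚ K.toSubalgebra
    rw [IntermediateField.adjoin_simple_toSubalgebra_of_isAlgebraic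
      ((hζ.isIntegral (NeZero.pos M)).tower_top (A := ℚ)).isAlgebraic]
    exact hζ.adjoin_isCyclotomicExtension ℚ
  haveI : FiniteDimensional ℚ K := IsCyclotomicExtension.finiteDimensional {M} ℚ K
  haveI : IsGalois ℚ K := IsCyclotomicExtension.isGalois {M} ℚ K
  let z : K := ⟨ζ, IntermediateField.subset_adjoin ℚ _ rfl⟩
  have hz : IsPrimitiveRoot z M :=
    IsPrimitiveRoot.of_map_of_injective (f := K.val) hζ K.val.injective
  let T' : Set K := K.val ⁻¹' T
  set Y : IntermediateField ℚ K := IntermediateField.adjoin ℚ T' with hY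
  have hsY : (⟨s, hS hs⟩ : K) ∈ Y := by
    rw [← IsGalois.fixedField_fixingSubgroup Y, IntermediateField.mem_fixedField_iff]
    intro σ hσ
    rw [IntermediateField.mem_fixingSubgroup_iff] at hσ
    obtain ⟨k, -, hk, hk'⟩ := hz.isPrimitiveRoot_iff.1 (hz.map_of_injective σ.injective)
    obtain ⟨f, hf⟩ := Cfsg.Agent.CharInt.exists_ringHom_pow (NeZero.ne M) hk
    have hfz : f ζ = ζ ^ k := hf ζ hζ.pow_eq_one
    have hcompat : ∀ x : K, f x = ((σ x : K) : ℂ) := by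
      rintro ⟨x, hx⟩
      induction hx using IntermediateField.adjoin_induction with
      | mem y hy =>
        have hy' : y = ζ := hy
        subst hy'
        show f y = ((σ z : K) : ℂ)
        rw [← hk']
        simpa [z] using hfz
      | algebraMap q =>
        show f (algebraMap ℚ ℂ q) = ((σ (algebraMap ℚ K q) : K) : ℂ)
        rw [AlgEquiv.commutes]
        show f (algebraMap ℚ ℂ q) = algebraMap ℚ ℂ q
        simp
      | add a b ha hb iha ihb =>
        show f (a + b) = ((σ (⟨a, ha⟩ + ⟨b, hb⟩ : K) : K) : ℂ)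
        rw [map_add, map_add, iha, ihb]
        rfl
      | inv a ha iha =>
        show f a⁻¹ = ((σ ((⟨a, ha⟩ : K)⁻¹) : K) : ℂ)
        rw [map_inv₀, map_inv₀, iha]
        rfl
      | mul a b ha hb iha ihb =>
        show f (a * b) = ((σ (⟨a, ha⟩ * ⟨b, hb⟩ : K) : K) : ℂ)
        rw [map_mul, map_mul, iha, ihb]
        rfl
    refine Subtype.ext ?_
    show ((σ (⟨s, hS hs⟩ : K) : K) : ℂ) = s
    rw [← hcompat]
    refine h f k hf (fun t ht => ?_) s hs
    have h1 := hσ ⟨t, hT ht⟩ (IntermediateField.subset_adjoin ℚ T' ht)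
    exact (hcompat ⟨t, hT ht⟩).trans (congrArg Subtype.val h1)
  have hall : ∀ y ∈ Y, (y : ℂ) ∈ IntermediateField.adjoin ℚ T := by
    intro y hy
    induction hy using IntermediateField.adjoin_induction with
    | mem a ha => exact IntermediateField.subset_adjoin ℚ T ha
    | algebraMap q =>
      show (algebraMap ℚ ℂ q) ∈ IntermediateField.adjoin ℚ T
      exact IntermediateField.algebraMap_mem _ q
    | add a b _ _ iha ihb => exact add_mem iha ihb
    | inv a _ iha => exact inv_mem iha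
    | mul a b _ _ iha ihb => exact mul_mem iha ihb
  exact hall _ hsY

omit [Finite G] in
theorem pow_half {ζ : ℂ} {m : ℕ} (hm : 1 ≤ m) (hζ : IsPrimitiveRoot ζ (2 ^ m)) :
    ζ ^ (2 ^ (m - 1)) = -1 := by
  have h2 : (ζ ^ (2 ^ (m - 1))) * (ζ ^ (2 ^ (m - 1))) = 1 := by
    rw [← pow_add, ← two_mul, ← pow_succ', Nat.sub_add_cancel hm, hζ.pow_eq_one]
  refine (mul_self_eq_one_iff.1 h2).resolve_left fun h => ?_
  have := Nat.le_of_dvd (by positivity) (hζ.dvd_of_pow_eq_one _ h)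
  have : 2 ^ (m - 1) < 2 ^ m := Nat.pow_lt_pow_right (by omega) (by omega)
  omega

omit [Finite G] in
/-- The Galois orbit of `ζ + ε ζ⁻¹`. -/
theorem twist_eq_iff {ζ ε : ℂ} (hζ0 : ζ ≠ 0) (hε : ε * ε = 1) (k : ℕ) :
    ζ ^ k + ε * (ζ ^ k)⁻¹ = ζ + ε * ζ⁻¹ ↔ ζ ^ k = ζ ∨ ζ ^ k = ε * ζ⁻¹ := by
  have hε0 : ε ≠ 0 := left_ne_zero_of_mul_eq_one hε
  have hk0 : ζ ^ k ≠ 0 := pow_ne_zero _ hζ0
  constructor
  · intro h
    have h' : (ζ ^ k - ζ) * (ζ ^ k - ε * ζ⁻¹) = 0 := by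
      field_simp at h ⊢
      linear_combination h
    rcases mul_eq_zero.1 h' with h1 | h1
    · exact Or.inl (sub_eq_zero.1 h1)
    · exact Or.inr (sub_eq_zero.1 h1)
  · rintro (h | h) <;> rw [h]
    field_simp
    ring

/-- If exactly `g` and `g ^ k₀` are conjugate powers of `g`, with `ζ ^ k₀ = ε ζ⁻¹`, the field of
values at `g` is `ℚ(ζ + ε ζ⁻¹)`. -/
theorem valueField_eq {m : ℕ} {g : G} (hg : orderOf g = 2 ^ m) {ζ : ℂ}
    (hζ : IsPrimitiveRoot ζ (2 ^ m)) {ε : ℂ} (hε : ε = 1 ∨ ε = -1) {k₀ : ℕ}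
    (hζk : ζ ^ k₀ = ε * ζ⁻¹) (hconj : IsConj g (g ^ k₀))
    (honly : ∀ k : ℕ, IsConj g (g ^ k) → g ^ k = g ∨ g ^ k = g ^ k₀) :
    valueField g = IntermediateField.adjoin ℚ ({ζ + ε * ζ⁻¹} : Set ℂ) := by
  classical
  haveI : NeZero (2 ^ m) := ⟨pow_ne_zero _ two_ne_zero⟩
  haveI := Fintype.ofFinite G
  have hζ0 : ζ ≠ 0 := hζ.ne_zero (NeZero.ne _)
  have hε2 : ε * ε = 1 := by rcases hε with rfl | rfl <;> norm_num
  have hζK : ζ ∈ IntermediateField.adjoin ℚ ({ζ} : Set ℂ) :=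
    IntermediateField.subset_adjoin ℚ _ rfl
  have hη : ζ + ε * ζ⁻¹ ∈ IntermediateField.adjoin ℚ ({ζ} : Set ℂ) := by
    rw [← hζk]; exact add_mem hζK (pow_mem hζK _)
  have hX : ∀ χ : Cfsg.IrrCharacter G,
      χ.1 g ∈ IntermediateField.adjoin ℚ ({ζ} : Set ℂ) := by
    intro χ
    obtain ⟨d, μ, -, hμ, hval⟩ :=
      Cfsg.Agent.CharInt.exists_roots (Cfsg.Agent.Char.irr_isCharacter χ) g
    have h1 := hval 1
    simp only [pow_one] at h1
    rw [h1]
    refine sum_mem fun i _ => ?_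
    obtain ⟨a, -, ha⟩ := hζ.eq_pow_of_pow_eq_one (hg ▸ hμ i)
    rw [← ha]
    exact pow_mem hζK a
  have hmod : ∀ k l : ℕ, ζ ^ k = ζ ^ l ↔ g ^ k = g ^ l := fun k l => by
    rw [pow_eq_pow_iff_modEq, hg, hζ.eq_orderOf]
    obtain ⟨u, hu⟩ := hζ.isUnit (NeZero.ne _)
    rw [← hu, orderOf_units, ← pow_eq_pow_iff_modEq, Units.ext_iff, Units.val_pow_eq_pow_val,
      Units.val_pow_eq_pow_val]
  have hfη : ∀ (f : ℂ →+* ℂ) (k : ℕ), (∀ z : ℂ, z ^ (2 ^ m) = 1 → f z = z ^ k) →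
      f (ζ + ε * ζ⁻¹) = ζ ^ k + ε * (ζ ^ k)⁻¹ := by
    intro f k hf
    have hfε : f ε = ε := by rcases hε with h | h <;> simp [h]
    rw [map_add, map_mul, hfε, map_inv₀, hf ζ hζ.pow_eq_one]
  refine le_antisymm
    (adjoin_le_of_fixed hζ _ _ (by rintro z ⟨χ, rfl⟩; exact hX χ) (by simpa using hη) ?_)
    (adjoin_le_of_fixed hζ _ _ (by simpa using hη) (by rintro z ⟨χ, rfl⟩; exact hX χ) ?_)
  · rintro f k hf hfix z ⟨χ, rfl⟩
    rw [map_value χ g (hg ▸ dvd_rfl) hf]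
    have h := hfix _ rfl
    rw [hfη f k hf, twist_eq_iff hζ0 hε2] at h
    refine Cfsg.Agent.Char.IsClassFunction.apply_of_isConj
      (Cfsg.Agent.Char.IsCharacter.isClassFunction (Cfsg.Agent.Char.irr_isCharacter χ)) ?_
    rcases h with h | h
    · have := (hmod k 1).1 (by rwa [pow_one])
      rw [this, pow_one]
    · rw [(hmod k k₀).1 (h.trans hζk.symm)]
      exact hconj.symm
  · rintro f k hf hfix z rfl
    rw [hfη f k hf, twist_eq_iff hζ0 hε2]
    have hc : IsConj g (g ^ k) := by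
      rw [Cfsg.Agent.Char.isConj_iff_forall_irr]
      intro χ
      rw [← map_value χ g (hg ▸ dvd_rfl) hf, hfix _ ⟨χ, rfl⟩]
    rcases honly k hc with h | h
    · left
      conv_rhs => rw [← pow_one ζ]
      rw [hmod, pow_one, h]
    · exact Or.inr (((hmod k k₀).2 h).trans hζk)

/-- A ring endomorphism fixing the values at `g` fixes `ζ + ε ζ⁻¹` when that generates them. -/
theorem twist_of_fix {m : ℕ} {g : G} {ζ : ℂ} (hζ : IsPrimitiveRoot ζ (2 ^ m)) {ε : ℂ}
    (hε : ε = 1 ∨ ε = -1)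
    (hfield : valueField g = IntermediateField.adjoin ℚ ({ζ + ε * ζ⁻¹} : Set ℂ)) {k : ℕ}
    (f : ℂ →+* ℂ) (hf : ∀ z : ℂ, z ^ (2 ^ m) = 1 → f z = z ^ k)
    (hfix : ∀ χ : Cfsg.IrrCharacter G, f (χ.1 g) = χ.1 g) :
    ζ ^ k + ε * (ζ ^ k)⁻¹ = ζ + ε * ζ⁻¹ := by
  have h := fix_adjoin f (S := {z : ℂ | ∃ χ : Cfsg.IrrCharacter G, (χ : G → ℂ) g = z})
    (by rintro z ⟨χ, rfl⟩; exact hfix χ) (ζ + ε * ζ⁻¹) (by
    show _ ∈ valueField g
    rw [hfield]
    exact IntermediateField.subset_adjoin ℚ _ rfl)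
  have hfε : f ε = ε := by rcases hε with h | h <;> simp [h]
  rwa [map_add, map_mul, hfε, map_inv₀, hf ζ hζ.pow_eq_one] at h

/-- If the field of values at `g ∈` a group of 2-elements is `ℚ(ζ ± ζ⁻¹)` for `ζ` of order
`2 ^ m ≥ 8`, the order of `g` is at least `2 ^ m`. -/
theorem le_log_orderOf {m j : ℕ} (hm : 3 ≤ m) {g : G} (hj : orderOf g = 2 ^ j) {ζ : ℂ}
    (hζ : IsPrimitiveRoot ζ (2 ^ m)) {ε : ℂ} (hε : ε = 1 ∨ ε = -1)
    (hfield : valueField g = IntermediateField.adjoin ℚ ({ζ + ε * ζ⁻¹} : Set ℂ)) : m ≤ j := by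
  by_contra hlt
  have hjlt : j ≤ m - 1 := by omega
  have hζ0 : ζ ≠ 0 := hζ.ne_zero (pow_ne_zero _ two_ne_zero)
  set k := 1 + 2 ^ (m - 1) with hk
  have hkc : k.Coprime (2 ^ m) := by
    refine ((Nat.prime_two.coprime_iff_not_dvd.2 ?_).pow_left m).symm
    have h1 : 2 ∣ 2 ^ (m - 1) := dvd_pow_self 2 (by omega)
    omega
  obtain ⟨f, hf⟩ := Cfsg.Agent.CharInt.exists_ringHom_pow (pow_ne_zero m (two_ne_zero (α := ℕ))) hkc
  have hgk : g ^ k = g := by
    rw [hk, pow_add, pow_one, orderOf_dvd_iff_pow_eq_one.1 (hj ▸ Nat.pow_dvd_pow 2 hjlt), mul_one]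
  have h := twist_of_fix hζ hε hfield f hf fun χ => by
    rw [map_value χ g (hj ▸ Nat.pow_dvd_pow 2 (by omega)) hf, hgk]
  have hζk : ζ ^ k = -ζ := by rw [hk, pow_add, pow_one, pow_half (by omega) hζ, mul_neg_one]
  rw [hζk] at h
  field_simp at h
  have h2 : ζ ^ 2 = -ε := by linear_combination (-1 / 2 : ℂ) * h
  have h4 : ζ ^ 4 = 1 := by
    rw [show (4 : ℕ) = 2 * 2 from rfl, pow_mul, h2]
    rcases hε with h' | h' <;> simp [h']
  have := Nat.le_of_dvd (by norm_num) (hζ.dvd_of_pow_eq_one _ h4)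
  have : 2 ^ 3 ≤ 2 ^ m := Nat.pow_le_pow_right two_pos hm
  omega

end Cfsg.Agent.TwoGroupValues
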